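import Groth.Agent.LimAmpleLib.Stalk
import Groth.Agent.AlgzLib.FibreVanish

/-!
# Ampleness spreads from a fibre to a neighbourhood
-/

set_option autoImplicit false
universe u

open CategoryTheory CategoryTheory.Limits AlgebraicGeometry TopologicalSpace Opposite
open KFlatLib (pb)

noncomputable section

namespace LimAmpleLib

/-- A proper scheme over a local scheme with ample closed fibre: the module is ample. -/
theorem isAmple_pb_fst {X Y : Scheme.{u}} (f : X ⟶ Y) [IsProper f] [IsLocallyNoetherian Y]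
    {L : X.Modules} (hL : PicF.IsInvertible L) (y : Y) (hy : CohB1.IsAmple (pb (f.fiberι y) L)) :
    CohB1.IsAmple (pb (pullback.fst f (Y.fromSpecStalk y)) L) := by
  let B : Type u := Y.presheaf.stalk y
  let m : Ideal B := IsLocalRing.maximalIdeal B
  let X₁ : Scheme.{u} := pullback f (Y.fromSpecStalk y)
  let f₁ : X₁ ⟶ Spec (CommRingCat.of B) := pullback.snd f (Y.fromSpecStalk y)
  letI : X₁.Over (Spec (CommRingCat.of B)) := ⟨f₁⟩
  let g : X₁ ⟶ X := pullback.fst f (Y.fromSpecStalk y)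
  have hsq : IsPullback g (X₁ ↘ Spec (CommRingCat.of B)) f (Y.fromSpecStalk y) :=
    IsPullback.of_hasPullback _ _
  haveI : IsProper f₁ := MorphismProperty.of_isPullback hsq inferInstance
  have : IsProper (X₁ ↘ Spec (CommRingCat.of B)) := ‹IsProper f₁›
  have : IsLocallyNoetherian X₁ := LocallyOfFiniteType.isLocallyNoetherian (X₁ ↘ Spec (CommRingCat.of B))
  have : CompactSpace X₁ := QuasiCompact.compactSpace_of_compactSpace (X₁ ↘ Spec (CommRingCat.of B))
  have : AlgebraicGeometry.IsNoetherian X₁ := {}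
  have hp0 : IsProper (CohB1.thickToBase f₁ m 0) :=
    MorphismProperty.of_isPullback (IsPullback.of_hasPullback f₁ (CohB1.specQuot m 0)) inferInstance
  let T : GrSysLib.Thick B m := ⟨CohB1.thick f₁ m, CohB1.thickToBase f₁ m, CohB1.thickTrans f₁ m,
    AlgzLib.isPullback_thickTrans f₁ m, hp0⟩
  let e : ∀ n, T.X n ⟶ X₁ := fun n => CohB1.thickι f₁ m n
  have he : ∀ n, IsPullback (e n) (T.p n) (X₁ ↘ Spec (CommRingCat.of B)) (CohB1.specQuot m n) :=
    fun n => IsPullback.of_hasPullback _ _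
  have hi : ∀ n, e n = T.i n ≫ e (n + 1) := fun n => (FormalCohLib.thickTrans_thickι m (f := f₁) n).symm
  -- the closed level is the fibre
  let j : Spec (CommRingCat.of (B ⧸ m ^ (0 + 1))) ≅ Spec (Y.residueField y) :=
    Scheme.Spec.mapIso (RingEquiv.toCommRingCatIso
      (Ideal.quotEquivOfEq (show m = m ^ (0 + 1) by rw [zero_add, pow_one]))).op
  have hj : j.hom ≫ Y.fromSpecResidueField y = CohB1.specQuot m 0 ≫ Y.fromSpecStalk y := by
    rw [Scheme.fromSpecResidueField, ← Category.assoc]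
    refine congrArg (· ≫ Y.fromSpecStalk y) ?_
    change Spec.map _ ≫ Spec.map _ = Spec.map _
    rw [← Spec.map_comp]
    rfl
  have H : IsPullback (e 0 ≫ g) (T.p 0 ≫ j.hom) f (Y.fromSpecResidueField y) :=
    ((he 0).paste_horiz hsq).of_iso (Iso.refl _) (Iso.refl _) j (Iso.refl _) (by simp) (by simp)
      (by simp) (by simp [hj])
  let φ : T.X 0 ≅ f.fiber y := H.isoPullback
  have hφ : φ.hom ≫ f.fiberι y = e 0 ≫ g := H.isoPullback_hom_fst
  have hA : CohB1.IsAmple (pb (e 0) (pb g L)) := by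
    refine AmpleDevLib.isAmple_of_iso (AmpleDevLib.isInvertible_pb φ.hom (AmpleDevLib.isInvertible_pb _ hL))
      (AmpleDevLib.isInvertible_pb (e 0) (AmpleDevLib.isInvertible_pb g hL))
      ((Scheme.Modules.pullbackComp _ _).app L ≪≫ (Scheme.Modules.pullbackCongr hφ).app L ≪≫
        ((Scheme.Modules.pullbackComp _ _).app L).symm) ?_
    exact AmpleDevLib.isAmple_pb φ.hom (AmpleDevLib.isInvertible_pb _ hL) hy
  refine (Groth.Agent.S0051.result B X₁ f₁ (pb g L) (AmpleDevLib.isInvertible_pb g hL)).2 fun F hF => ?_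
  obtain ⟨d₀, hd₀⟩ := AlgzLib.exists_HHmodPow_vanish T e he hi (AmpleDevLib.isInvertible_pb g hL) hA F hF
  refine ⟨d₀, fun d hd p hp => ?_⟩
  let G := CohB1.tensorMod F (CohB1.tensorPow (pb g L) d)
  have hG : Coh.IsCoh G :=
    SerreVanLib.isCoh_tensor hF (AmpleThLib.tensorPow_isInvertible (AmpleDevLib.isInvertible_pb g hL) d)
  have : Coh.IsQCoh G := hG.1
  have hfin := FormalLib.finite_HH (A := B) _ hG p
  obtain ⟨c⟩ := Groth.Agent.S0059.result B m X₁ _ hG p
  have hlim : Subsingleton (Formal.HHlim m G p) :=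
    ⟨fun a b => Subtype.ext (funext fun n => (hd₀ d hd p hp n).elim _ _)⟩
  have hc : Subsingleton (AdicCompletion m (Coh.HH X₁ G p)) := c.toEquiv.subsingleton
  have h1 := (AdicCompletion.eval_surjective m (Coh.HH X₁ G p) 1).subsingleton
  refine Submodule.subsingleton_iff B |>.mp (subsingleton_of_bot_eq_top ?_)
  refine (Submodule.eq_bot_of_le_smul_of_le_jacobson_bot m _ hfin.fg_top (fun x _ => ?_)
    (IsLocalRing.maximalIdeal_le_jacobson _)).symm
  have h2 := (Submodule.Quotient.mk_eq_zero (m ^ 1 • ⊤ : Submodule B (Coh.HH X₁ G p))).mp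
    (h1.elim (Submodule.Quotient.mk x) 0)
  rwa [pow_one] at h2

/-- The preimage of a smaller affine open is affine over the bigger one. -/
theorem isAffineHom_homOfLE {X Y : Scheme.{u}} (f : X ⟶ Y) {W W' : Y.Opens} (hW : IsAffineOpen W)
    (hW' : IsAffineOpen W') (h : W ≤ W') : IsAffineHom (X.homOfLE (f.preimage_mono h)) := by
  haveI : IsAffine W.toScheme := hW
  haveI : IsAffine W'.toScheme := hW'
  haveI : IsAffineHom (Y.homOfLE h) := inferInstance
  have hsq : IsPullback (X.homOfLE (f.preimage_mono h)) (f ∣_ W) (f ∣_ W') (Y.homOfLE h) := by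
    refine IsPullback.of_right ?_ ?_ (isPullback_morphismRestrict f W').flip
    · rw [Scheme.homOfLE_ι, Scheme.homOfLE_ι]
      exact (isPullback_morphismRestrict f W).flip
    · rw [← cancel_mono W'.ι]
      simp only [Category.assoc, Scheme.homOfLE_ι, morphismRestrict_ι, Scheme.homOfLE_ι_assoc]
  exact MorphismProperty.of_isPullback hsq.flip inferInstance

/-- Ampleness over an affine open passes to smaller affine opens. -/
theorem isAmple_restrict_of_le {X Y : Scheme.{u}} (f : X ⟶ Y) {L : X.Modules} (hL : PicF.IsInvertible L)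
    {W W' : Y.Opens} (hW : IsAffineOpen W) (hW' : IsAffineOpen W') (h : W ≤ W')
    (hA : CohB1.IsAmple (pb (f ⁻¹ᵁ W').ι L)) : CohB1.IsAmple (L.restrict (f ⁻¹ᵁ W).ι) := by
  haveI := isAffineHom_homOfLE f hW hW' h
  have hI : PicF.IsInvertible (pb (f ⁻¹ᵁ W').ι L) := AmpleDevLib.isInvertible_pb _ hL
  refine AmpleDevLib.isAmple_of_iso (AmpleDevLib.isInvertible_pb (X.homOfLE (f.preimage_mono h)) hI)
    (AmpleThLib.restrict_isInvertible hL (f ⁻¹ᵁ W).ι)
    ((Scheme.Modules.pullbackComp _ _).app L ≪≫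
      (Scheme.Modules.pullbackCongr (Scheme.homOfLE_ι X (f.preimage_mono h))).app L ≪≫
      ((Scheme.Modules.restrictFunctorIsoPullback (f ⁻¹ᵁ W).ι).app L).symm)
    (AmpleDevLib.isAmple_pb _ hI hA)

/-- **Ampleness spreads to a neighbourhood.** -/
theorem exists_ample_nhd {X Y : Scheme.{u}} (f : X ⟶ Y) [IsProper f] [AlgebraicGeometry.IsNoetherian Y]
    {L : X.Modules} (hL : PicF.IsInvertible L) (y : Y) (hy : CohB1.IsAmple (pb (f.fiberι y) L)) :
    ∃ V : Y.Opens, y ∈ V ∧ ∀ W : Y.Opens, W ≤ V → IsAffineOpen W →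
      CohB1.IsAmple (L.restrict (f ⁻¹ᵁ W).ι) := by
  obtain ⟨W₀⟩ := (inferInstance : Nonempty (AffNb y))
  haveI : ∀ (W W' : AffNb y) (h : W ⟶ W'), IsAffineHom ((preD y f).map h) := fun W W' h =>
    isAffineHom_homOfLE f W.2.1 W'.2.1 (leOfHom h)
  haveI : ∀ W, CompactSpace ((preD y f).obj W) := fun W =>
    isCompact_iff_compactSpace.mp (f.isCompact_preimage W.2.1.isCompact)
  haveI : IsLocallyNoetherian X := LocallyOfFiniteType.isLocallyNoetherian f
  haveI : ∀ W, QuasiSeparatedSpace ((preD y f).obj W) := fun W =>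
    inferInstanceAs (QuasiSeparatedSpace (f ⁻¹ᵁ W.1).toScheme)
  let L₀ : ((preD y f).obj W₀).Modules := pb (f ⁻¹ᵁ W₀.1).ι L
  have hL₀ : PicF.IsInvertible L₀ := AmpleDevLib.isInvertible_pb _ hL
  have hlim : CohB1.IsAmple (pb ((preCone y f).π.app W₀) L₀) :=
    AmpleDevLib.isAmple_of_iso (AmpleDevLib.isInvertible_pb _ hL) (AmpleDevLib.isInvertible_pb _ hL₀)
      ((Scheme.Modules.pullbackCongr (preπ_ι y f W₀)).symm.app L ≪≫
        ((Scheme.Modules.pullbackComp _ _).app L).symm)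
      (isAmple_pb_fst f hL y hy)
  obtain ⟨W₁, φ, hW₁⟩ := exists_isAmple_stage (isLimitPreCone y f) hL₀ hlim
  have hle : f ⁻¹ᵁ W₁.1 ≤ f ⁻¹ᵁ W₀.1 := f.preimage_mono (leOfHom φ)
  have hW₁' : CohB1.IsAmple (pb (X.homOfLE hle) (pb (f ⁻¹ᵁ W₀.1).ι L)) := hW₁
  have hA₁ : CohB1.IsAmple (pb (f ⁻¹ᵁ W₁.1).ι L) :=
    AmpleDevLib.isAmple_of_iso (AmpleDevLib.isInvertible_pb _ (AmpleDevLib.isInvertible_pb _ hL))
      (AmpleDevLib.isInvertible_pb _ hL)
      ((Scheme.Modules.pullbackComp _ _).app L ≪≫ (Scheme.Modules.pullbackCongr (Scheme.homOfLE_ι X hle)).app L)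
      hW₁'
  refine ⟨W₁.1, W₁.2.2, fun W hWle hW => ?_⟩
  exact isAmple_restrict_of_le f hL hW W₁.2.1 hWle hA₁

end LimAmpleLib
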