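import Groth.Agent.LimAmpleLib.Main
import Groth.Agent.LimAmpleLib.Spread
import Groth.Agent.RichLib.LimitBaseChange
import Groth.Agent.MiscFlat6.RelAmpleLocal
import Groth.Agent.NormDescLib.Relative

/-!
# Relative ampleness descends to a stage of a limit
-/

set_option autoImplicit false
universe u

open CategoryTheory CategoryTheory.Limits AlgebraicGeometry TopologicalSpace Opposite
open KFlatLib (pb)
open RichLib

noncomputable section

namespace LimAmpleLib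

attribute [local simp] pullback.lift_fst pullback.lift_snd pullback.lift_fst_assoc pullback.lift_snd_assoc

theorem relAmple_of_iso {X Y : Scheme.{u}} (f : X ⟶ Y) {L L' : X.Modules} (e : L ≅ L')
    (hL' : PicF.IsInvertible L') (h : RelAmple.IsRelAmple f L) : RelAmple.IsRelAmple f L' :=
  ⟨h.1, fun W => AmpleDevLib.isAmple_of_iso (h.2 W).1 (AmpleThLib.restrict_isInvertible hL' _)
    ((Scheme.Modules.restrictFunctor _).mapIso e) (h.2 W)⟩

theorem pb_pb_iso {A B C : Scheme.{u}} (a : A ⟶ B) (b : B ⟶ C) (c : A ⟶ C) (h : a ≫ b = c) (L : C.Modules) :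
    Nonempty (pb a (pb b L) ≅ pb c L) :=
  ⟨(Scheme.Modules.pullbackComp a b).app L ≪≫ (Scheme.Modules.pullbackCongr h).app L⟩

theorem isAmple_transport {A B C : Scheme.{u}} (a : A ⟶ B) [IsAffineHom a] (b : B ⟶ C) (c : A ⟶ C)
    (h : a ≫ b = c) {L : C.Modules} (hL : PicF.IsInvertible L) (hA : CohB1.IsAmple (pb b L)) :
    CohB1.IsAmple (pb c L) := by
  obtain ⟨e⟩ := pb_pb_iso a b c h L
  have h1 := AmpleDevLib.isAmple_pb a (AmpleDevLib.isInvertible_pb b hL) hA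
  exact AmpleDevLib.isAmple_of_iso h1.1 (AmpleDevLib.isInvertible_pb c hL) e h1

theorem relAmple_comp_iso {X Y Y' : Scheme.{u}} (f : X ⟶ Y) (e : Y ≅ Y') {L : X.Modules}
    (h : RelAmple.IsRelAmple f L) : RelAmple.IsRelAmple (f ≫ e.hom) L := by
  haveI := h.1
  exact ⟨inferInstance, fun W => h.2 ⟨e.hom ⁻¹ᵁ W.1, W.2.preimage e.hom⟩⟩

/-- The part of a base change over an open of the old base. -/
theorem exists_iso_piece {X X₀ Y Y₀ : Scheme.{u}} {qX : X ⟶ X₀} {f : X ⟶ Y} {f₀ : X₀ ⟶ Y₀} {qY : Y ⟶ Y₀}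
    (h : IsPullback qX f f₀ qY) (W : Y₀.Opens) :
    ∃ e : (f ⁻¹ᵁ (qY ⁻¹ᵁ W)).toScheme ≅ pullback (pullback.snd f₀ W.ι) (pullback.fst W.ι qY),
      e.hom ≫ pullback.fst (pullback.snd f₀ W.ι) (pullback.fst W.ι qY) ≫ pullback.fst f₀ W.ι =
        (f ⁻¹ᵁ (qY ⁻¹ᵁ W)).ι ≫ qX := by
  let W' := qY ⁻¹ᵁ W
  have h1 : IsPullback ((f ⁻¹ᵁ W').ι ≫ qX) (f ∣_ W') f₀ (W'.ι ≫ qY) :=
    (isPullback_morphismRestrict f W').flip.paste_horiz h
  let e0 : W'.toScheme ≅ pullback W.ι qY := (pullbackRestrictIsoRestrict qY W).symm ≪≫ pullbackSymmetry qY W.ι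
  have he0 : e0.hom ≫ pullback.fst W.ι qY ≫ W.ι = W'.ι ≫ qY := by
    have h2 : e0.hom ≫ pullback.fst W.ι qY = qY ∣_ W := by
      simp only [e0, Iso.trans_hom, Iso.symm_hom, Category.assoc, pullbackSymmetry_hom_comp_fst]
      rw [Iso.inv_comp_eq, pullbackRestrictIsoRestrict_hom_morphismRestrict]
    rw [← Category.assoc, h2, morphismRestrict_ι]
  have h2 : IsPullback (pullback.fst (pullback.snd f₀ W.ι) (pullback.fst W.ι qY) ≫ pullback.fst f₀ W.ι)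
      (pullback.snd (pullback.snd f₀ W.ι) (pullback.fst W.ι qY)) f₀ (pullback.fst W.ι qY ≫ W.ι) :=
    (IsPullback.of_hasPullback _ _).paste_horiz (IsPullback.of_hasPullback f₀ W.ι)
  have h3 : IsPullback ((f ⁻¹ᵁ W').ι ≫ qX) ((f ∣_ W') ≫ e0.hom) f₀ (pullback.fst W.ι qY ≫ W.ι) :=
    h1.of_iso (Iso.refl _) (Iso.refl _) e0 (Iso.refl _) (by simp) (by simp) (by simp)
      (by rw [Iso.refl_hom, Category.comp_id, he0])
  exact ⟨h3.isoIsPullback _ _ h2, h3.isoIsPullback_hom_fst _ _ h2⟩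

variable {I : Type u} [SmallCategory I] [IsCofiltered I]

theorem exists_stage_over {Y₀ X₀ : Scheme.{u}} (B : LimBC.Sys I Y₀) (f₀ : X₀ ⟶ Y₀) [QuasiCompact f₀]
    [QuasiSeparated f₀] {L₀ : X₀.Modules} (hL₀ : PicF.IsInvertible L₀) (W : Y₀.affineOpens)
    (hA : CohB1.IsAmple (pb (pullback.fst (pullback.snd f₀ W.1.ι) (pullback.fst W.1.ι B.s) ≫
      pullback.fst f₀ W.1.ι) L₀)) :
    ∃ i : I, CohB1.IsAmple (pb (pullback.fst (pullback.snd f₀ W.1.ι) (pullback.fst W.1.ι (B.t i)) ≫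
      pullback.fst f₀ W.1.ι) L₀) := by
  haveI : IsAffine W.1.toScheme := W.2
  let g' := pullback.snd f₀ W.1.ι
  let C := LimBC.pb (LimBC.pb B W.1.ι) g'
  haveI : CompactSpace (pullback f₀ W.1.ι : Scheme.{u}) := QuasiCompact.compactSpace_of_compactSpace g'
  haveI : QuasiSeparatedSpace (pullback f₀ W.1.ι : Scheme.{u}) := quasiSeparatedSpace_of_quasiSeparated g'
  haveI : ∀ (i j : I) (a : i ⟶ j), IsAffineHom (C.D.map a) := fun _ _ a => C.affine_map a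
  haveI : ∀ i, CompactSpace (C.D.obj i) := C.compactSpace_obj
  haveI : ∀ i, QuasiSeparatedSpace (C.D.obj i) := C.quasiSeparatedSpace_obj
  obtain ⟨i₁⟩ := (IsCofiltered.nonempty : Nonempty I)
  let L₁ : (C.D.obj i₁).Modules := pb (C.t i₁ ≫ pullback.fst f₀ W.1.ι) L₀
  have hlim : CohB1.IsAmple (pb (C.c.π.app i₁) L₁) := by
    obtain ⟨e⟩ := pb_pb_iso (C.c.π.app i₁) (C.t i₁ ≫ pullback.fst f₀ W.1.ι)
      (C.s ≫ pullback.fst f₀ W.1.ι) (by rw [← Category.assoc, C.hs i₁]) L₀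
    exact AmpleDevLib.isAmple_of_iso hA.1
      (AmpleDevLib.isInvertible_pb _ (AmpleDevLib.isInvertible_pb _ hL₀)) e.symm hA
  obtain ⟨j, φ, hj⟩ := exists_isAmple_stage C.hc (AmpleDevLib.isInvertible_pb _ hL₀) hlim
  refine ⟨j, ?_⟩
  obtain ⟨e⟩ := pb_pb_iso (C.D.map φ) (C.t i₁ ≫ pullback.fst f₀ W.1.ι) (C.t j ≫ pullback.fst f₀ W.1.ι)
    (by rw [← Category.assoc, C.w φ]) L₀
  exact AmpleDevLib.isAmple_of_iso hj.1 (AmpleDevLib.isInvertible_pb _ hL₀) e hj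

theorem stage_mono {Y₀ X₀ : Scheme.{u}} (B : LimBC.Sys I Y₀) (f₀ : X₀ ⟶ Y₀)
    {L₀ : X₀.Modules} (hL₀ : PicF.IsInvertible L₀) (W : Y₀.affineOpens) {i j : I} (a : j ⟶ i)
    (h : CohB1.IsAmple (pb (pullback.fst (pullback.snd f₀ W.1.ι) (pullback.fst W.1.ι (B.t i)) ≫
      pullback.fst f₀ W.1.ι) L₀)) :
    CohB1.IsAmple (pb (pullback.fst (pullback.snd f₀ W.1.ι) (pullback.fst W.1.ι (B.t j)) ≫
      pullback.fst f₀ W.1.ι) L₀) := by
  let C := LimBC.pb (LimBC.pb B W.1.ι) (pullback.snd f₀ W.1.ι)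
  haveI : IsAffineHom (C.D.map a) := C.affine_map a
  refine isAmple_transport (C.D.map a) (C.t i ≫ pullback.fst f₀ W.1.ι) _ ?_ hL₀ h
  rw [← Category.assoc, C.w a]
  rfl

/-- **Relative ampleness descends to a stage.** -/
theorem exists_relAmple_stage {Y₀ X₀ : Scheme.{u}} [CompactSpace Y₀] (B : LimBC.Sys I Y₀) (f₀ : X₀ ⟶ Y₀)
    [QuasiCompact f₀] [QuasiSeparated f₀] {L₀ : X₀.Modules} (hL₀ : PicF.IsInvertible L₀)
    {X : Scheme.{u}} {f : X ⟶ B.c.pt} {qX : X ⟶ X₀} (hX : IsPullback qX f f₀ B.s)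
    (hR : RelAmple.IsRelAmple f (pb qX L₀)) :
    ∃ i : I, RelAmple.IsRelAmple (pullback.snd f₀ (B.t i)) (pb (pullback.fst f₀ (B.t i)) L₀) := by
  classical
  haveI : IsAffineHom B.s := by
    obtain ⟨i⟩ := (IsCofiltered.nonempty : Nonempty I)
    haveI : ∀ (x y : I) (a : x ⟶ y), IsAffineHom (B.D.map a) := fun _ _ a => B.affine_map a
    haveI := B.affine i
    haveI : IsAffineHom (B.c.π.app i) := isAffineHom_π_app B.D B.c B.hc i
    rw [← B.hs i]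
    infer_instance
  obtain ⟨S, hS⟩ := isCompact_univ.elim_finite_subcover (fun W : Y₀.affineOpens => (W.1 : Set Y₀))
    (fun W => W.1.2) fun y _ => by
      obtain ⟨W, hW, hy, -⟩ := exists_isAffineOpen_mem_and_subset (x := y) (U := (⊤ : Y₀.Opens)) trivial
      exact Set.mem_iUnion.mpr ⟨⟨W, hW⟩, hy⟩
  have hW : ∀ W : S, ∃ i : I, CohB1.IsAmple (pb (pullback.fst (pullback.snd f₀ W.1.1.ι)
      (pullback.fst W.1.1.ι (B.t i)) ≫ pullback.fst f₀ W.1.1.ι) L₀) := fun W => by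
    refine exists_stage_over B f₀ hL₀ W.1 ?_
    obtain ⟨e, he⟩ := exists_iso_piece hX W.1.1
    have h1 : CohB1.IsAmple ((pb qX L₀).restrict (f ⁻¹ᵁ (B.s ⁻¹ᵁ W.1.1)).ι) :=
      hR.2 ⟨_, W.1.2.preimage B.s⟩
    have h2 : CohB1.IsAmple (pb ((f ⁻¹ᵁ (B.s ⁻¹ᵁ W.1.1)).ι ≫ qX) L₀) :=
      AmpleDevLib.isAmple_of_iso h1.1 (AmpleDevLib.isInvertible_pb _ hL₀)
        ((Scheme.Modules.restrictFunctorIsoPullback _).app _ ≪≫ (Scheme.Modules.pullbackComp _ qX).app L₀) h1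
    exact isAmple_transport e.inv _ _ (by rw [← he, Iso.inv_hom_id_assoc]) hL₀ h2
  obtain ⟨i, hi⟩ := LimBC.exists_stage (fun (W : S) i => CohB1.IsAmple (pb (pullback.fst (pullback.snd f₀ W.1.1.ι)
      (pullback.fst W.1.1.ι (B.t i)) ≫ pullback.fst f₀ W.1.1.ι) L₀))
    (fun W _ _ a h => stage_mono B f₀ hL₀ W.1 a h) hW
  haveI := B.affine i
  refine ⟨i, MiscFlat6.isRelAmple_of_local _ fun y => ?_⟩
  obtain ⟨W, hWS, hyW⟩ := Set.mem_iUnion₂.mp (hS (Set.mem_univ (B.t i y)))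
  refine ⟨B.t i ⁻¹ᵁ W.1, hyW, fun V hV hVle => ?_⟩
  obtain ⟨e, he⟩ := exists_iso_piece (IsPullback.of_hasPullback f₀ (B.t i)) W.1
  refine isAmple_restrict_of_le _ (AmpleDevLib.isInvertible_pb _ hL₀) hV (W.2.preimage (B.t i)) hVle ?_
  have h1 := isAmple_transport e.hom _ _ he hL₀ (hi ⟨W, hWS⟩)
  exact AmpleDevLib.isAmple_of_iso h1.1 (AmpleDevLib.isInvertible_pb _ (AmpleDevLib.isInvertible_pb _ hL₀))
    ((Scheme.Modules.pullbackComp _ _).app L₀).symm h1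

theorem relAmple_baseChange' {X X₀ Y Y₀ : Scheme.{u}} {qX : X ⟶ X₀} {f : X ⟶ Y} {f₀ : X₀ ⟶ Y₀} {qY : Y ⟶ Y₀}
    [QuasiCompact f₀] (h : IsPullback qX f f₀ qY) {L : X₀.Modules} (hR : RelAmple.IsRelAmple f₀ L) :
    RelAmple.IsRelAmple f (pb qX L) := by
  have hL := MiscFlat6.invertible_of_relAmple hR
  have h1 := NormDescLib.relAmple_pb h.isoPullback.hom (pullback.snd f₀ qY)
    (MiscFlat6.isRelAmple_baseChange f₀ qY hR)
  rw [h.isoPullback_hom_snd] at h1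
  obtain ⟨e⟩ := pb_pb_iso h.isoPullback.hom (pullback.fst f₀ qY) qX h.isoPullback_hom_fst L
  exact relAmple_of_iso f e (AmpleDevLib.isInvertible_pb qX hL) h1

end LimAmpleLib
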