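import Groth.Agent.LimAmpleLib.Main
import Mathlib.CategoryTheory.Filtered.Final
import Mathlib.CategoryTheory.Limits.Shapes.Pullback.Connected

/-!
# The local scheme as the limit of the affine neighbourhoods
-/

set_option autoImplicit false
universe u

open CategoryTheory CategoryTheory.Limits AlgebraicGeometry TopologicalSpace Opposite
open KFlatLib (pb)

noncomputable section

namespace LimAmpleLib

variable {Y : Scheme.{u}} (y : Y)

/-- The affine neighbourhoods. -/
abbrev AffNb : Type u := {W : Y.Opens // IsAffineOpen W ∧ y ∈ W}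

theorem exists_affNb_le {V : Y.Opens} (hy : y ∈ V) : ∃ W : AffNb y, W.1 ≤ V := by
  obtain ⟨W, hW, hyW, hWV⟩ := exists_isAffineOpen_mem_and_subset (U := V) (x := y) hy
  exact ⟨⟨W, hW, hyW⟩, hWV⟩

instance : Nonempty (AffNb y) := ⟨(exists_affNb_le y (V := ⊤) trivial).choose⟩

instance : IsCofiltered (AffNb y) where
  cone_objs a b := by
    obtain ⟨c, hc⟩ := exists_affNb_le y (V := a.1 ⊓ b.1) ⟨a.2.2, b.2.2⟩
    exact ⟨c, homOfLE (fun z hz => (hc hz).1), homOfLE (fun z hz => (hc hz).2), trivial⟩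
  cone_maps a b f g := ⟨a, 𝟙 a, Subsingleton.elim _ _⟩

/-- Affine neighbourhoods among the neighbourhoods. -/
def toNhds : AffNb y ⥤ OpenNhds (X := Y.toTopCat) y where
  obj W := ⟨W.1, W.2.2⟩
  map f := homOfLE (show (⟨_, _⟩ : OpenNhds (X := Y.toTopCat) y) ≤ ⟨_, _⟩ from leOfHom f)

instance : (toNhds y).op.Final := by
  haveI : (toNhds y).Initial := by
    refine Functor.initial_of_exists_of_isCofiltered _ (fun d => ?_) fun {d c} s s' => ⟨c, 𝟙 c, Subsingleton.elim _ _⟩
    obtain ⟨W, hW⟩ := exists_affNb_le y (V := d.1) d.2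
    exact ⟨W, ⟨homOfLE hW⟩⟩
  infer_instance

/-- The neighbourhoods, as schemes. -/
def nbD : AffNb y ⥤ Scheme.{u} where
  obj W := W.1.toScheme
  map f := Y.homOfLE (leOfHom f)
  map_id W := Scheme.homOfLE_rfl Y _
  map_comp f g := (Scheme.homOfLE_homOfLE Y _ _).symm

/-- The map of the local scheme to a neighbourhood. -/
def nbπ (W : AffNb y) : Spec (Y.presheaf.stalk y) ⟶ W.1.toScheme :=
  Spec.map (Y.presheaf.germ W.1 y W.2.2) ≫ W.2.1.isoSpec.inv

theorem nbπ_ι (W : AffNb y) : nbπ y W ≫ W.1.ι = Y.fromSpecStalk y := by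
  rw [nbπ, Category.assoc, IsAffineOpen.isoSpec_inv_ι]
  exact W.2.1.fromSpecStalk_eq_fromSpecStalk W.2.2

theorem nbπ_trans {W W' : AffNb y} (h : W.1 ≤ W'.1) : nbπ y W ≫ Y.homOfLE h = nbπ y W' := by
  rw [← cancel_mono W'.1.ι, Category.assoc, Scheme.homOfLE_ι, nbπ_ι, nbπ_ι]

/-- The local scheme over the neighbourhoods. -/
def nbCone : Cone (nbD y) where
  pt := Spec (Y.presheaf.stalk y)
  π :=
    { app := nbπ y
      naturality := fun W W' f => (Category.id_comp _).trans (nbπ_trans y (leOfHom f)).symm }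

theorem isoSpec_trans {W W' : AffNb y} (h : W.1 ≤ W'.1) :
    Spec.map (Y.presheaf.map (homOfLE h).op) ≫ W'.2.1.isoSpec.inv = W.2.1.isoSpec.inv ≫ Y.homOfLE h := by
  rw [← cancel_mono W'.1.ι, Category.assoc, Category.assoc, Scheme.homOfLE_ι, IsAffineOpen.isoSpec_inv_ι,
    IsAffineOpen.isoSpec_inv_ι]
  exact W'.2.1.map_fromSpec W.2.1 _

/-- The rings of the neighbourhoods. -/
abbrev nbRings : (AffNb y)ᵒᵖ ⥤ CommRingCat.{u} :=
  (toNhds y).op ⋙ (OpenNhds.inclusion (X := Y.toTopCat) y).op ⋙ Y.presheaf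

/-- The cocone of germs. -/
def germCocone : Cocone (nbRings y) :=
  (colimit.cocone ((OpenNhds.inclusion (X := Y.toTopCat) y).op ⋙ Y.presheaf)).whisker (toNhds y).op

/-- The stalk is the colimit over affine neighbourhoods. -/
def isColimitGermCocone : IsColimit (germCocone y) :=
  (Functor.Final.isColimitWhiskerEquiv (toNhds y).op _).symm (colimit.isColimit _)

/-- The diagram of spectra. -/
def specIso : (nbRings y).rightOp ⋙ Scheme.Spec ≅ nbD y :=
  NatIso.ofComponents (fun W => (W.2.1.isoSpec.symm : Spec Γ(Y, W.1) ≅ W.1.toScheme))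
    fun {W W'} f => isoSpec_trans y (leOfHom f)

/-- The local scheme is the limit. -/
def isLimitNbCone : IsLimit (nbCone y) := by
  have h1 : IsLimit (Scheme.Spec.mapCone (coneRightOpOfCocone (germCocone y))) :=
    isLimitOfPreserves Scheme.Spec (isLimitConeRightOpOfCocone _ (isColimitGermCocone y))
  exact (IsLimit.postcomposeHomEquiv (specIso y) _).symm h1 |>.ofIsoLimit
    (Cone.ext (Iso.refl _) fun W => (Category.id_comp _).symm)

variable {X : Scheme.{u}} (f : X ⟶ Y)

/-- The parts of `X` over the neighbourhoods. -/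
def preD : AffNb y ⥤ Scheme.{u} where
  obj W := (f ⁻¹ᵁ W.1).toScheme
  map h := X.homOfLE (f.preimage_mono (leOfHom h))
  map_id W := Scheme.homOfLE_rfl X _
  map_comp g h := (Scheme.homOfLE_homOfLE X _ _).symm

theorem restrict_trans {W W' : AffNb y} (h : W.1 ≤ W'.1) :
    X.homOfLE (f.preimage_mono h) ≫ f ∣_ W'.1 = f ∣_ W.1 ≫ Y.homOfLE h := by
  rw [← cancel_mono W'.1.ι]
  simp only [Category.assoc, Scheme.homOfLE_ι, morphismRestrict_ι, Scheme.homOfLE_ι_assoc]

/-- The projections. -/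
def preHom : preD y f ⟶ nbD y where
  app W := f ∣_ W.1
  naturality W W' h := restrict_trans y f (leOfHom h)

/-- The part over the local scheme. -/
def preπ (W : AffNb y) : pullback f (Y.fromSpecStalk y) ⟶ (f ⁻¹ᵁ W.1).toScheme :=
  (isPullback_morphismRestrict f W.1).flip.lift (pullback.fst f (Y.fromSpecStalk y))
    (pullback.snd f (Y.fromSpecStalk y) ≫ nbπ y W)
    (by rw [Category.assoc, nbπ_ι]; exact pullback.condition)

theorem preπ_ι (W : AffNb y) : preπ y f W ≫ (f ⁻¹ᵁ W.1).ι = pullback.fst f (Y.fromSpecStalk y) :=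
  IsPullback.lift_fst _ _ _ _

theorem preπ_restrict (W : AffNb y) :
    preπ y f W ≫ f ∣_ W.1 = pullback.snd f (Y.fromSpecStalk y) ≫ nbπ y W :=
  IsPullback.lift_snd _ _ _ _

theorem preπ_trans {W W' : AffNb y} (h : W.1 ≤ W'.1) :
    preπ y f W ≫ X.homOfLE (f.preimage_mono h) = preπ y f W' := by
  rw [← cancel_mono (f ⁻¹ᵁ W'.1).ι, Category.assoc, Scheme.homOfLE_ι, preπ_ι, preπ_ι]

theorem isPullback_preπ (W : AffNb y) :
    IsPullback (preπ y f W) (pullback.snd f (Y.fromSpecStalk y)) (f ∣_ W.1) (nbπ y W) := by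
  refine IsPullback.of_right ?_ (preπ_restrict y f W) (isPullback_morphismRestrict f W.1).flip
  rw [preπ_ι, nbπ_ι]
  exact IsPullback.of_hasPullback _ _

/-- The cone over the parts. -/
def preCone : Cone (preD y f) where
  pt := pullback f (Y.fromSpecStalk y)
  π :=
    { app := preπ y f
      naturality := fun W W' h => (Category.id_comp _).trans (preπ_trans y f (leOfHom h)).symm }

/-- The part over the local scheme is the limit. -/
def isLimitPreCone : IsLimit (preCone y f) :=
  haveI := IsCofiltered.isConnected (AffNb y)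
  isLimitOfIsPullbackOfIsConnected (preHom y f) (preCone y f) (nbCone y)
    { hom := pullback.snd f (Y.fromSpecStalk y), w := fun W => (preπ_restrict y f W).symm }
    (fun W => isPullback_preπ y f W) (isLimitNbCone y)

end LimAmpleLib
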