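import Groth.Agent.LimAmpleLib.Main
import Groth.Agent.NormDescLib.Cocycle
import Groth.Agent.NormDescLib.Ample

/-!
# An ample invertible module on a limit gives one on a stage
-/

set_option autoImplicit false
universe u

open CategoryTheory CategoryTheory.Limits AlgebraicGeometry TopologicalSpace Opposite
open AmpleLib AmpleThLib
open TwistLib (genSet)
open KFlatLib (pb puSec)
open NormDescLib (rY)

noncomputable section

namespace LimAmpleLib

theorem app_eq_zero_of_comp {X Y Z : Scheme.{u}} {g : X ⟶ Y} {r : Y ⟶ Z} {r' : X ⟶ Z} (h : g ≫ r = r')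
    {U : Z.Opens} {s : Γ(Z, U)} (h0 : r.app U s = 0) : r'.app U s = 0 := by
  subst h
  show g.app (r ⁻¹ᵁ U) (r.app U s) = 0
  rw [h0]
  exact map_zero _

theorem app_rY {X Y : Scheme.{u}} (f : X ⟶ Y) {U W : Y.Opens} (h : W ≤ U) (s : Γ(Y, U)) :
    f.app W (rY h s) = rY (f.preimage_mono h) (f.app U s) :=
  congrArg (fun φ => φ.hom s) (f.naturality (homOfLE h).op)

variable {I : Type u} [SmallCategory I] {D : I ⥤ Scheme.{u}} {c : Cone D} (hc : IsLimit c) [IsCofiltered I]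
  [∀ (i j : I) (f : i ⟶ j), IsAffineHom (D.map f)] [∀ i, CompactSpace (D.obj i)]
  [∀ i, QuasiSeparatedSpace (D.obj i)]

include hc in
theorem exists_ample_of_cocycle {K : Type u} [Finite K] {i : I} (U : K → (D.obj i).Opens)
    (hU : ∀ k, IsAffineOpen (U k)) (C : ∀ _ l : K, Γ(D.obj i, U l))
    (hone : ∀ k, (c.π.app i).app (U k) (C k k) = 1)
    (hcoc : ∀ j k l, (c.π.app i).app (U k ⊓ U l)
      (rY (inf_le_left : U k ⊓ U l ≤ U k) (C j k) * rY (inf_le_right : U k ⊓ U l ≤ U l) (C k l) -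
        rY (inf_le_right : U k ⊓ U l ≤ U l) (C j l)) = 0)
    (hb : ∀ k l, c.π.app i ⁻¹ᵁ (D.obj i).basicOpen (C k l) = c.π.app i ⁻¹ᵁ (U k ⊓ U l))
    (hcov : c.π.app i ⁻¹ᵁ (⨆ k, U k) = ⊤) :
    ∃ (j : I) (M : (D.obj j).Modules), CohB1.IsAmple M := by
  classical
  let P : K ⊕ (K × K × K) ⊕ (K × K) ⊕ PUnit.{u + 1} → Over i → Prop := fun x φ =>
    match x with
    | .inl k => (D.map φ.hom).app (U k) (C k k - 1) = 0
    | .inr (.inl t) => (D.map φ.hom).app (U t.2.1 ⊓ U t.2.2)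
        (rY (inf_le_left : U t.2.1 ⊓ U t.2.2 ≤ U t.2.1) (C t.1 t.2.1) *
          rY (inf_le_right : U t.2.1 ⊓ U t.2.2 ≤ U t.2.2) (C t.2.1 t.2.2) -
          rY (inf_le_right : U t.2.1 ⊓ U t.2.2 ≤ U t.2.2) (C t.1 t.2.2)) = 0
    | .inr (.inr (.inl p)) => D.map φ.hom ⁻¹ᵁ (D.obj i).basicOpen (C p.1 p.2) = D.map φ.hom ⁻¹ᵁ (U p.1 ⊓ U p.2)
    | .inr (.inr (.inr _)) => D.map φ.hom ⁻¹ᵁ (⨆ k, U k) = ⊤
  obtain ⟨φ, hφ⟩ := RichLib.LimBC.exists_stage (I := Over i) P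
    (fun x φ ψ g h => by
      have hw : D.map (Over.Hom.left g) ≫ D.map φ.hom = D.map ψ.hom := by
        rw [← D.map_comp]; exact congrArg D.map (Over.w g)
      rcases x with k | t | p | z
      · exact app_eq_zero_of_comp hw h
      · exact app_eq_zero_of_comp hw h
      · change D.map ψ.hom ⁻¹ᵁ _ = D.map ψ.hom ⁻¹ᵁ _
        rw [← hw]
        exact congrArg (D.map (Over.Hom.left g) ⁻¹ᵁ ·) h
      · change D.map ψ.hom ⁻¹ᵁ _ = ⊤
        rw [← hw]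
        exact congrArg (D.map (Over.Hom.left g) ⁻¹ᵁ ·) h)
    (fun x => by
      have hc2 : ∀ k l : K, IsCompact (((U k ⊓ U l : (D.obj i).Opens)) : Set (D.obj i)) := fun k l =>
        QuasiSeparatedSpace.inter_isCompact _ _ (U k).2 (hU k).isCompact (U l).2 (hU l).isCompact
      rcases x with k | t | p | z
      · obtain ⟨j, f, hf⟩ := exists_app_map_eq_zero_of_isLimit D c hc (hU k).isCompact (C k k - 1)
          (by rw [map_sub, hone, map_one, sub_self])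
        exact ⟨Over.mk f, hf⟩
      · obtain ⟨j, f, hf⟩ := exists_app_map_eq_zero_of_isLimit D c hc (hc2 _ _) _ (hcoc t.1 t.2.1 t.2.2)
        exact ⟨Over.mk f, hf⟩
      · obtain ⟨j, f, hf⟩ := exists_map_preimage_eq_map_preimage D c hc
          ((hU p.2).basicOpen _).isCompact (hc2 _ _) (hb p.1 p.2)
        exact ⟨Over.mk f, hf⟩
      · obtain ⟨j, f, hf⟩ := exists_map_eq_top D c hc _ hcov
        exact ⟨Over.mk f, hf⟩)
  let r := D.map φ.hom
  let C' : ∀ _ l : K, Γ(D.obj φ.left, r ⁻¹ᵁ U l) := fun k l => r.app (U l) (C k l)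
  have hone' : ∀ k, C' k k = 1 := fun k => by
    have h : r.app (U k) (C k k - 1) = 0 := hφ (.inl k)
    rw [map_sub, map_one, sub_eq_zero] at h
    exact h
  have hcoc' : ∀ j k l, rY (inf_le_left : r ⁻¹ᵁ U k ⊓ r ⁻¹ᵁ U l ≤ r ⁻¹ᵁ U k) (C' j k) *
      rY (inf_le_right : r ⁻¹ᵁ U k ⊓ r ⁻¹ᵁ U l ≤ r ⁻¹ᵁ U l) (C' k l) =
      rY (inf_le_right : r ⁻¹ᵁ U k ⊓ r ⁻¹ᵁ U l ≤ r ⁻¹ᵁ U l) (C' j l) := fun j k l => by
    have h : r.app (U k ⊓ U l) (rY (inf_le_left : U k ⊓ U l ≤ U k) (C j k) *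
          rY (inf_le_right : U k ⊓ U l ≤ U l) (C k l) -
          rY (inf_le_right : U k ⊓ U l ≤ U l) (C j l)) = 0 := hφ (.inr (.inl (j, k, l)))
    rw [map_sub, map_mul, app_rY, app_rY, app_rY, sub_eq_zero] at h
    exact h
  have hcov' : ∀ y : D.obj φ.left, ∃ k, y ∈ r ⁻¹ᵁ U k := fun y => by
    have h : r ⁻¹ᵁ (⨆ k, U k) = ⊤ := hφ (.inr (.inr (.inr PUnit.unit)))
    have hy : r y ∈ ⨆ k, U k := h.ge (show y ∈ (⊤ : (D.obj φ.left).Opens) from trivial)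
    obtain ⟨k, hk⟩ := Opens.mem_iSup.mp hy
    exact ⟨k, hk⟩
  obtain ⟨M, hM, τ, hτ⟩ := NormDescLib.exists_invertible_of_cocycle hcov' hone' hcoc'
  have hloc : ∀ k, genSet hM (τ k) = r ⁻¹ᵁ U k := fun k => by
    have hl : ∀ l, genSet hM (τ k) ⊓ r ⁻¹ᵁ U l = r ⁻¹ᵁ U k ⊓ r ⁻¹ᵁ U l := fun l => by
      rw [hτ k l, ← Scheme.preimage_basicOpen]
      exact hφ (.inr (.inr (.inl (k, l))))
    ext y
    obtain ⟨l, hy⟩ := hcov' y
    have h := SetLike.ext_iff.mp (hl l) y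
    exact ⟨fun h1 => (h.mp ⟨h1, hy⟩).1, fun h1 => (h.mpr ⟨h1, hy⟩).1⟩
  refine ⟨φ.left, M, (isAmple_iff (hL := hM)).mpr ⟨inferInstance, fun y => ?_⟩⟩
  obtain ⟨k, hy⟩ := hcov' y
  exact ⟨1, r ⁻¹ᵁ U k, one_pos, ⟨pS (τ k) 1, (genSet_pS hM (τ k) one_pos).trans (hloc k)⟩, hy,
    (hU k).preimage r⟩

include hc in
/-- **An ample invertible module on the limit gives one on a stage.** -/
theorem exists_isAmple_some_stage {L : c.pt.Modules} (hA : CohB1.IsAmple L) :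
    ∃ (j : I) (M : (D.obj j).Modules), CohB1.IsAmple M := by
  classical
  haveI : CompactSpace c.pt := hA.2.1
  obtain ⟨n, hn, hcov⟩ := NormDescLib.exists_saturated_cover (𝟙 c.pt) hA
  choose V hyV hV σ hσ using hcov
  obtain ⟨S, hS⟩ := isCompact_univ.elim_finite_subcover (fun x => SetLike.coe (V x))
    (fun x => (V x).2) fun x _ => Set.mem_iUnion.mpr ⟨x, hyV x⟩
  let K : Type u := {x // x ∈ S}
  have hLn := tensorPow_isInvertible hA.1 n
  have hσ' : ∀ k : K, genSet hLn (σ k.1) = V k.1 := fun k => hσ k.1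
  have hgen : ∀ k : K, GenOn (CohB1.tensorPow L n) (res (CohB1.tensorPow L n) (le_top : V k.1 ≤ ⊤) (σ k.1)) :=
    fun k => by
      have h := (TwistLib.genSet_genOn hLn (σ k.1)).res (hσ' k).ge
      rw [res_res] at h
      exact h
  choose cf hcf using fun k l : K => exists_coeff (σ k.1) (hgen l)
  choose ix Vi hVi hVe using fun k : K => exists_isAffineOpen_preimage_eq D c hc (V k.1) (hV k.1)
  obtain ⟨i, hi⟩ := IsCofiltered.inf_objs_exists ((S.attach).image ix)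
  let a : ∀ k : K, i ⟶ ix k := fun k => (hi (Finset.mem_image_of_mem _ (S.mem_attach k))).some
  let U : K → (D.obj i).Opens := fun k => D.map (a k) ⁻¹ᵁ Vi k
  have hU : ∀ k, IsAffineOpen (U k) := fun k => (hVi k).preimage _
  have hUe : ∀ k, c.π.app i ⁻¹ᵁ U k = V k.1 := fun k => by
    rw [← Scheme.Hom.comp_preimage, c.w]; exact hVe k
  obtain ⟨φ, hφ⟩ := RichLib.LimBC.exists_stage (I := Over i) (ι := K × K)
    (fun p φ => ∃ f : Γ(D.obj φ.left, D.map φ.hom ⁻¹ᵁ U p.2),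
      (c.π.app φ.left).appLE (D.map φ.hom ⁻¹ᵁ U p.2) (c.π.app i ⁻¹ᵁ U p.2)
        (ModDescLib.preimage_le_stage φ (U p.2)) f = rY (hUe p.2).le (cf p.1 p.2))
    (fun x φ ψ g ⟨f, hf⟩ => ⟨(D.map (Over.Hom.left g)).appLE (D.map φ.hom ⁻¹ᵁ U x.2) (D.map ψ.hom ⁻¹ᵁ U x.2)
      (ModDescLib.preimage_le_map g (U x.2)) f, by
        rw [← CommRingCat.comp_apply, Scheme.Hom.appLE_comp_appLE]
        simp only [c.w]
        exact hf⟩)
    (fun x => ModDescLib.exists_lift_section hc (hU x.2) _)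
  choose f hf using hφ
  let W : K → (D.obj φ.left).Opens := fun k => D.map φ.hom ⁻¹ᵁ U k
  have hWe : ∀ k, c.π.app φ.left ⁻¹ᵁ W k = V k.1 := fun k => (preimage_eq c φ (U k)).trans (hUe k)
  let π : c.pt ⟶ D.obj φ.left := c.π.app φ.left
  let C : ∀ _ l : K, Γ(D.obj φ.left, W l) := fun k l => f (k, l)
  have hC : ∀ k l, π.app (W l) (C k l) = rY (hWe l).le (cf k l) := fun k l => by
    have hle : π ⁻¹ᵁ W l ≤ c.π.app i ⁻¹ᵁ U l := (preimage_eq c φ (U l)).le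
    have h := congrArg (rY hle) (hf (k, l))
    rw [NormDescLib.rY_rY] at h
    refine Eq.trans ?_ h
    rw [app_appLE]
    exact (rX_appLE π _ hle (f (k, l))).symm
  have hinj : ∀ (k : K) {Z : c.pt.Opens} (hZ : Z ≤ V k.1) (r r' : Γ(c.pt, Z)),
      r • res (CohB1.tensorPow L n) (le_top : Z ≤ ⊤) (σ k.1) =
        r' • res (CohB1.tensorPow L n) (le_top : Z ≤ ⊤) (σ k.1) → r = r' := fun k Z hZ r r' h => by
    have hg := (hgen k).res hZ
    rw [res_res] at hg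
    refine (hg Z le_rfl).1 ?_
    dsimp only
    rw [res_refl]
    exact h
  have hrel : ∀ (k l : K) {Z : c.pt.Opens} (hZ : Z ≤ V l.1),
      rY hZ (cf k l) • res (CohB1.tensorPow L n) (le_top : Z ≤ ⊤) (σ l.1) =
        res (CohB1.tensorPow L n) (le_top : Z ≤ ⊤) (σ k.1) := fun k l Z hZ => by
    have h := congrArg (res (CohB1.tensorPow L n) hZ) (hcf k l)
    rw [AmpleLib.res_smul, res_res, res_res] at h
    exact h
  refine exists_ample_of_cocycle hc W (fun k => (hU k).preimage _) C ?_ ?_ ?_ ?_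
  · intro k
    change π.app (W k) (C k k) = 1
    rw [hC]
    refine hinj k (hWe k).le _ _ ?_
    rw [hrel, one_smul]
  · intro j k l
    change π.app (W k ⊓ W l) _ = 0
    rw [map_sub, map_mul, app_rY, app_rY, app_rY, hC, hC, hC, NormDescLib.rY_rY, NormDescLib.rY_rY,
      NormDescLib.rY_rY, sub_eq_zero]
    refine hinj l ((show π ⁻¹ᵁ (W k ⊓ W l) ≤ V l.1 from fun x hx => (hWe l).le hx.2)) _ _ ?_
    rw [mul_smul, hrel, hrel, hrel]
  · intro k l
    change π ⁻¹ᵁ _ = π ⁻¹ᵁ _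
    rw [Scheme.preimage_basicOpen, hC]
    refine (c.pt.basicOpen_res _ (homOfLE (hWe l).le).op).trans ?_
    rw [← mem_genSet_coeff hLn (σ k.1) (hgen l) (hcf k l), hσ']
    change π ⁻¹ᵁ W l ⊓ (V k.1 ⊓ V l.1) = π ⁻¹ᵁ W k ⊓ π ⁻¹ᵁ W l
    rw [hWe, hWe]
    exact (inf_eq_right.mpr inf_le_right)
  · refine top_le_iff.mp fun x _ => ?_
    obtain ⟨y, hy, hxy⟩ := Set.mem_iUnion₂.mp (hS (Set.mem_univ x))
    exact Opens.mem_iSup.mpr ⟨⟨y, hy⟩, (hWe ⟨y, hy⟩).ge hxy⟩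

end LimAmpleLib
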