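import Groth.Agent.ModDescLib.Main
import Groth.Agent.MiscFlat6.AmpleFamily
import Groth.Agent.CohCmpLib.PuSec
import Groth.Agent.AmpleDevLib.Pull

/-!
# Ampleness descends to a stage of a limit
-/

set_option autoImplicit false
universe u

open CategoryTheory CategoryTheory.Limits AlgebraicGeometry TopologicalSpace Opposite
open AmpleLib AmpleThLib
open TwistLib (genSet)
open KFlatLib (pb puSec puSecLE puSec_smul)

noncomputable section

namespace LimAmpleLib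

variable {I : Type u} [SmallCategory I] {D : I ⥤ Scheme.{u}} (c : Cone D)

/-- Pullback in two steps. -/
def κ {i : I} (G : (D.obj i).Modules) (φ : Over i) :
    pb (c.π.app φ.left) (pb (D.map φ.hom) G) ≅ pb (c.π.app i) G :=
  (Scheme.Modules.pullbackComp (c.π.app φ.left) (D.map φ.hom)).app G ≪≫
    (Scheme.Modules.pullbackCongr (c.w φ.hom)).app G

theorem preimage_eq {i : I} (φ : Over i) (U : (D.obj i).Opens) :
    c.π.app φ.left ⁻¹ᵁ (D.map φ.hom ⁻¹ᵁ U) = c.π.app i ⁻¹ᵁ U := by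
  rw [← Scheme.Hom.comp_preimage, c.w]

theorem κ_puSec {i : I} (G : (D.obj i).Modules) (φ : Over i) {U : (D.obj i).Opens} (m : Γ(G, U))
    {V : c.pt.Opens} (h : V ≤ c.π.app φ.left ⁻¹ᵁ (D.map φ.hom ⁻¹ᵁ U)) (h' : V ≤ c.π.app i ⁻¹ᵁ U) :
    (κ c G φ).hom.app V (res _ h (puSec (c.π.app φ.left) (puSec (D.map φ.hom) m))) =
      res (pb (c.π.app i) G) h' (puSec (c.π.app i) m) := by
  have h2 := congrArg (fun z => res (pb (c.π.app φ.left ≫ D.map φ.hom) G) h z)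
    (CohCmpLib.pullbackComp_puSec (c.π.app φ.left) (D.map φ.hom) G m)
  change res _ h (((Scheme.Modules.pullbackComp _ _).hom.app G).app _ _) = _ at h2
  rw [res, ← QCohLib.app_map] at h2
  change ((Scheme.Modules.pullbackCongr (c.w φ.hom)).hom.app G).app V
    (((Scheme.Modules.pullbackComp _ _).hom.app G).app V _) = _
  refine (congrArg (((Scheme.Modules.pullbackCongr (c.w φ.hom)).hom.app G).app V) h2).trans ?_
  exact CohCmpLib.pullbackCongr_puSec (c.w φ.hom) G m h h'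

theorem app_rX {X Y : Scheme.{u}} (f : X ⟶ Y) {U W : Y.Opens} (h : W ≤ U) (a : Γ(Y, U)) :
    f.app W (rX h a) = f.appLE U (f ⁻¹ᵁ W) (f.preimage_mono h) a := by
  rw [rX, ← CommRingCat.comp_apply, Scheme.Hom.app_eq_appLE, Scheme.Hom.map_appLE]

theorem rX_appLE {X Y : Scheme.{u}} (f : X ⟶ Y) {U : Y.Opens} {V V' : X.Opens} (e : V ≤ f ⁻¹ᵁ U) (h : V' ≤ V)
    (a : Γ(Y, U)) : rX h (f.appLE U V e a) = f.appLE U V' (h.trans e) a := by
  rw [rX, ← CommRingCat.comp_apply, Scheme.Hom.appLE_map]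

theorem appLE_appLE {X Y Z : Scheme.{u}} (f : X ⟶ Y) (g : Y ⟶ Z) (k : X ⟶ Z) (hk : f ≫ g = k) {U : Z.Opens}
    {V : Y.Opens} {W : X.Opens} (e : V ≤ g ⁻¹ᵁ U) (e' : W ≤ f ⁻¹ᵁ V) (a : Γ(Z, U)) :
    f.appLE V W e' (g.appLE U V e a) =
      k.appLE U W (by subst hk; exact e'.trans (f.preimage_mono e)) a := by
  subst hk
  rw [← CommRingCat.comp_apply, Scheme.Hom.appLE_comp_appLE]

theorem app_appLE {X Y : Scheme.{u}} (f : X ⟶ Y) {U : Y.Opens} (a : Γ(Y, U)) :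
    f.app U a = f.appLE U (f ⁻¹ᵁ U) le_rfl a := by
  rw [Scheme.Hom.app_eq_appLE]

theorem compat_step {X Y Z : Scheme.{u}} (ψ : X ⟶ Y) (q : Y ⟶ Z) (r : X ⟶ Z) (hr : r = ψ ≫ q) {A B : Z.Opens}
    (fa : Γ(Y, q ⁻¹ᵁ A)) (fb : Γ(Y, q ⁻¹ᵁ B)) (t : Γ(Z, A ⊓ B)) (hWA : q ⁻¹ᵁ (A ⊓ B) ≤ q ⁻¹ᵁ A)
    (hWB : q ⁻¹ᵁ (A ⊓ B) ≤ q ⁻¹ᵁ B) (hA : r ⁻¹ᵁ A ≤ ψ ⁻¹ᵁ (q ⁻¹ᵁ A)) (hB : r ⁻¹ᵁ B ≤ ψ ⁻¹ᵁ (q ⁻¹ᵁ B))
    (hA' : r ⁻¹ᵁ A ⊓ r ⁻¹ᵁ B ≤ r ⁻¹ᵁ A)
    (h : ψ.app (q ⁻¹ᵁ (A ⊓ B)) (rX hWA fa - rX hWB fb * q.app (A ⊓ B) t) = 0) :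
    rX hA' (rX hA (ψ.app (q ⁻¹ᵁ A) fa)) =
      rX (inf_le_right : r ⁻¹ᵁ A ⊓ r ⁻¹ᵁ B ≤ r ⁻¹ᵁ B) (rX hB (ψ.app (q ⁻¹ᵁ B) fb)) *
        (show Γ(X, r ⁻¹ᵁ A ⊓ r ⁻¹ᵁ B) from r.app (A ⊓ B) t) := by
  subst hr
  have h1 : ψ.app (q ⁻¹ᵁ (A ⊓ B)) (rX hWA fa) =
      ψ.app (q ⁻¹ᵁ (A ⊓ B)) (rX hWB fb) *
        (show Γ(X, ψ ⁻¹ᵁ (q ⁻¹ᵁ (A ⊓ B))) from (ψ ≫ q).app (A ⊓ B) t) := by
    rw [map_sub, map_mul, sub_eq_zero] at h
    exact h
  rw [app_rX, app_rX] at h1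
  rw [app_appLE, app_appLE, rX_appLE, rX_appLE, rX_appLE, rX_appLE]
  exact h1

variable {c} (hc : IsLimit c) [IsCofiltered I] [∀ (i j : I) (f : i ⟶ j), IsAffineHom (D.map f)]
  [∀ i, CompactSpace (D.obj i)] [∀ i, QuasiSeparatedSpace (D.obj i)]

include hc in
/-- Sections of invertible modules descend to a stage. -/
theorem exists_section {i : I} {G : (D.obj i).Modules} (hG : PicF.IsInvertible G)
    (σ : Γ(pb (c.π.app i) G, ⊤)) :
    ∃ (φ : Over i) (s : Γ(pb (D.map φ.hom) G, ⊤)),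
      (κ c G φ).hom.app ⊤ (puSec (c.π.app φ.left) s) = σ := by
  classical
  have hloc : ∀ x : D.obj i, ∃ (U : (D.obj i).Opens) (e : Γ(G, U)), x ∈ U ∧ IsAffineOpen U ∧ GenOn G e := by
    intro x
    obtain ⟨U, e, hx, he⟩ := TwistLib.exists_genOn hG x
    obtain ⟨W, hW, hxW, hWU⟩ := exists_isAffineOpen_mem_and_subset (U := U) (x := x) hx
    exact ⟨W, res G hWU e, hxW, hW, he.res _⟩
  choose U e hxU hU he using hloc
  obtain ⟨S, hS⟩ := isCompact_univ.elim_finite_subcover (fun x => (U x : Set (D.obj i)))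
    (fun x => (U x).2) fun x _ => Set.mem_iUnion.mpr ⟨x, hxU x⟩
  let π := c.π.app i
  let K : Type u := {x // x ∈ S}
  have hgen : ∀ a : K, GenOn (pb π G) (puSec π (e a.1)) := fun a => AmpleDevLib.puSec_genOn π (he a.1)
  choose b hb using fun a : K => exists_coeff σ (hgen a)
  obtain ⟨φ₁, hφ₁⟩ := RichLib.LimBC.exists_stage (I := Over i) (ι := K)
    (fun x φ => ∃ f : Γ(D.obj φ.left, D.map φ.hom ⁻¹ᵁ U x.1),
      (c.π.app φ.left).appLE (D.map φ.hom ⁻¹ᵁ U x.1) (π ⁻¹ᵁ U x.1)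
        (ModDescLib.preimage_le_stage φ (U x.1)) f = b x)
    (fun x φ ψ g ⟨f, hf⟩ => ⟨(D.map (Over.Hom.left g)).appLE (D.map φ.hom ⁻¹ᵁ U x.1) (D.map ψ.hom ⁻¹ᵁ U x.1)
      (ModDescLib.preimage_le_map g (U x.1)) f, by
        rw [← CommRingCat.comp_apply, Scheme.Hom.appLE_comp_appLE]
        simp only [c.w]
        exact hf⟩)
    (fun x => ModDescLib.exists_lift_section hc (hU x.1) _)
  choose f hf using hφ₁
  -- transition functions
  have ht : ∀ p : K × K, ∃ t : Γ(D.obj i, U p.1.1 ⊓ U p.2.1),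
      t • res G inf_le_left (e p.1.1) = res G inf_le_right (e p.2.1) := fun p => by
    obtain ⟨t, ht⟩ := (he p.1.1 (U p.1.1 ⊓ U p.2.1) inf_le_left).2 (res G inf_le_right (e p.2.1))
    exact ⟨t, ht⟩
  choose t ht using ht
  let q := D.map φ₁.hom
  let W : ∀ p : K × K, (D.obj φ₁.left).Opens := fun p => q ⁻¹ᵁ (U p.1.1 ⊓ U p.2.1)
  let d : ∀ p : K × K, Γ(D.obj φ₁.left, W p) := fun p =>
    rX (show W p ≤ q ⁻¹ᵁ U p.1.1 from fun y hy => hy.1) (f p.1) -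
      rX (show W p ≤ q ⁻¹ᵁ U p.2.1 from fun y hy => hy.2) (f p.2) * q.app _ (t p)
  have hd : ∀ p, (c.π.app φ₁.left).app (W p) (d p) = 0 := by
    intro p
    let V : c.pt.Opens := c.π.app φ₁.left ⁻¹ᵁ W p
    have hV : V ≤ π ⁻¹ᵁ (U p.1.1 ⊓ U p.2.1) := (preimage_eq c φ₁ _).le
    have h1 : ∀ (x : K) (hx : W p ≤ q ⁻¹ᵁ U x.1) (hx' : V ≤ π ⁻¹ᵁ U x.1),
        (c.π.app φ₁.left).app (W p) (rX hx (f x)) = rX hx' (b x) := fun x hx hx' => by
      exact (app_rX _ hx _).trans ((rX_appLE _ _ hx' (f x)).symm.trans (congrArg (rX hx') (hf x)))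
    have h2 : (c.π.app φ₁.left).app (W p) (q.app _ (t p)) = rX hV (π.app _ (t p)) := by
      rw [app_appLE, app_appLE, app_appLE, rX_appLE]
      exact appLE_appLE _ _ _ (c.w φ₁.hom) _ _ _
    have ha : V ≤ π ⁻¹ᵁ U p.1.1 := fun y hy => (hV hy).1
    have hb' : V ≤ π ⁻¹ᵁ U p.2.1 := fun y hy => (hV hy).2
    rw [map_sub, map_mul, h1 p.1 _ ha, h1 p.2 _ hb', h2, sub_eq_zero]
    refine ((hgen p.1).res ha V le_rfl).1 ?_
    have h3 := congrArg (fun z => res (pb π G) hV (puSec π z)) (ht p)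
    simp only [TwistLib.puSec_res, puSec_smul, res_smul, res_res] at h3
    have h4 : res (pb π G) ha (res (pb π G) le_top σ : Γ(pb π G, π ⁻¹ᵁ U p.1.1)) =
        res (pb π G) hb' (res (pb π G) le_top σ : Γ(pb π G, π ⁻¹ᵁ U p.2.1)) := by rw [res_res, res_res]
    rw [← hb p.1, ← hb p.2, res_smul, res_smul, ← h3, ← mul_smul] at h4
    simp only [res_res]
    exact h4
  obtain ⟨ψ, hψ⟩ := RichLib.LimBC.exists_stage (I := Over φ₁.left) (ι := K × K)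
    (fun p χ => (D.map χ.hom).app (W p) (d p) = 0)
    (fun p χ χ' g h => by
      have hw : D.map (Over.Hom.left g) ≫ D.map χ.hom = D.map χ'.hom := by
        rw [← D.map_comp]; exact congrArg D.map (Over.w g)
      have h' := congrArg (fun z => (D.map (Over.Hom.left g)).appLE (D.map χ.hom ⁻¹ᵁ W p) (D.map χ'.hom ⁻¹ᵁ W p)
        (by exact (congrArg (· ⁻¹ᵁ W p) hw.symm).le) z) h
      rw [map_zero, app_appLE, appLE_appLE _ _ _ hw, ← app_appLE] at h'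
      exact h')
    (fun p => by
      have hW : IsCompact (W p : Set (D.obj φ₁.left)) :=
        QuasiCompact.isCompact_preimage _ (U p.1.1 ⊓ U p.2.1).2
          (QuasiSeparatedSpace.inter_isCompact _ _ (U p.1.1).2 (hU p.1.1).isCompact (U p.2.1).2
            (hU p.2.1).isCompact)
      obtain ⟨j, g, hg⟩ := exists_app_map_eq_zero_of_isLimit D c hc hW (d p) (hd p)
      exact ⟨Over.mk g, hg⟩)
  -- the glued section
  let φ : Over i := Over.mk (ψ.hom ≫ φ₁.hom)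
  let r := D.map φ.hom
  have hr : r = D.map ψ.hom ≫ q := D.map_comp _ _
  have hrV : ∀ V : (D.obj i).Opens, r ⁻¹ᵁ V = D.map ψ.hom ⁻¹ᵁ (q ⁻¹ᵁ V) := fun V => by
    rw [hr]; rfl
  let g : ∀ a : K, Γ(D.obj ψ.left, r ⁻¹ᵁ U a.1) := fun a =>
    rX (hrV _).le ((D.map ψ.hom).app _ (f a))
  let sec : ∀ a : K, Γ(pb r G, r ⁻¹ᵁ U a.1) := fun a => g a • puSec r (e a.1)
  have hsec : ∀ a a' : K, res (pb r G) (inf_le_left : r ⁻¹ᵁ U a.1 ⊓ r ⁻¹ᵁ U a'.1 ≤ _) (sec a) =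
      res (pb r G) inf_le_right (sec a') := by
    intro a a'
    have h3 := congrArg (fun z => puSec r z) (ht (a, a'))
    simp only [TwistLib.puSec_res, puSec_smul, res_smul, res_res] at h3
    let V₀ : (D.obj ψ.left).Opens := r ⁻¹ᵁ U a.1 ⊓ r ⁻¹ᵁ U a'.1
    let τ : Γ(D.obj ψ.left, V₀) := r.app (U a.1 ⊓ U a'.1) (t (a, a'))
    have h5 : rX (inf_le_left : V₀ ≤ r ⁻¹ᵁ U a.1) (g a) =
        rX (inf_le_right : V₀ ≤ r ⁻¹ᵁ U a'.1) (g a') * τ := by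
      exact compat_step (D.map ψ.hom) q r hr (f a) (f a') (t (a, a')) _ _ _ _ _ (hψ (a, a'))
    simp only [sec, res_smul]
    change rX _ (g a) • _ = rX _ (g a') • _
    rw [h5, mul_smul]
    exact congrArg (rX inf_le_right (g a') • ·) h3
  have hcov : (⊤ : (D.obj i).Opens) ≤ ⨆ a : K, U a.1 := fun x _ => by
    obtain ⟨y, hy, hxy⟩ := Set.mem_iUnion₂.mp (hS (Set.mem_univ x))
    exact Opens.mem_iSup.mpr ⟨⟨y, hy⟩, hxy⟩
  obtain ⟨s, hs, -⟩ := TopCat.Sheaf.existsUnique_gluing'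
    ((QCohLib.toAbF _).obj (pb r G) : TopCat.Sheaf AddCommGrpCat _) (fun a : K => r ⁻¹ᵁ U a.1) ⊤
    (fun a => homOfLE le_top) (fun x _ => by
      obtain ⟨a, ha⟩ := Opens.mem_iSup.mp (hcov (x := r x) trivial)
      exact Opens.mem_iSup.mpr ⟨a, ha⟩) sec hsec
  refine ⟨φ, s, ?_⟩
  refine TopCat.Sheaf.eq_of_locally_eq' ((QCohLib.toAbF c.pt).obj (pb π G) : TopCat.Sheaf AddCommGrpCat _)
    (fun a : K => π ⁻¹ᵁ U a.1) ⊤ (fun a => homOfLE le_top) (fun x _ => by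
      obtain ⟨a, ha⟩ := Opens.mem_iSup.mp (hcov (x := π x) trivial)
      exact Opens.mem_iSup.mpr ⟨a, ha⟩) _ _ fun a => ?_
  change res (pb π G) (le_top : π ⁻¹ᵁ U a.1 ≤ ⊤) _ = res (pb π G) le_top σ
  rw [res, ← QCohLib.app_map, ← hb a]
  have hle : π ⁻¹ᵁ U a.1 ≤ c.π.app φ.left ⁻¹ᵁ (r ⁻¹ᵁ U a.1) := (preimage_eq c φ _).ge
  have hsa : res (pb r G) (le_top : r ⁻¹ᵁ U a.1 ≤ ⊤) s = g a • puSec r (e a.1) := hs a
  have h7 : res (pb (c.π.app φ.left) (pb r G)) (le_top : π ⁻¹ᵁ U a.1 ≤ ⊤) (puSec (c.π.app φ.left) s) =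
      (c.π.app φ.left).appLE _ _ hle (g a) •
        res (pb (c.π.app φ.left) (pb r G)) hle (puSec (c.π.app φ.left) (puSec r (e a.1))) := by
    have h8 := congrArg (fun z => res (pb (c.π.app φ.left) (pb r G)) hle (puSec (c.π.app φ.left) z)) hsa
    simp only [TwistLib.puSec_res, puSec_smul, res_smul, res_res] at h8
    exact h8
  refine (congrArg ((κ c G φ).hom.app (π ⁻¹ᵁ U a.1)) h7).trans ?_
  rw [Scheme.Modules.Hom.app_smul, κ_puSec c G φ (e a.1) hle le_rfl, res_refl]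
  refine congrArg (· • puSec π (e a.1)) ?_
  rw [← hf a]
  simp only [g, rX, Scheme.Hom.app_eq_appLE, ← CommRingCat.comp_apply, Scheme.Hom.appLE_map,
    Scheme.Hom.map_appLE, Scheme.Hom.appLE_comp_appLE]
  simp only [φ, Over.mk_left, c.w]
  rfl

/-- The loci of sections are compact. -/
theorem isCompact_genSet {X : Scheme.{u}} [CompactSpace X] {M : X.Modules} (hM : PicF.IsInvertible M)
    (τ : Γ(M, ⊤)) : IsCompact (genSet hM τ : Set X) := by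
  obtain ⟨S, hS⟩ := isCompact_univ.elim_finite_subcover (fun A : X.affineOpens => (A.1 : Set X))
    (fun A => A.1.2) fun x _ => by
      obtain ⟨W, hW, hx, -⟩ := exists_isAffineOpen_mem_and_subset (U := (⊤ : X.Opens)) (x := x) trivial
      exact Set.mem_iUnion.mpr ⟨⟨W, hW⟩, hx⟩
  have h : (genSet hM τ : Set X) = ⋃ A ∈ S, ((A.1 : Set X) ∩ (genSet hM τ : Set X)) := by
    refine Set.Subset.antisymm (fun y hy => ?_) (Set.iUnion₂_subset fun A _ => Set.inter_subset_right)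
    obtain ⟨A, hA, hyA⟩ := Set.mem_iUnion₂.mp (hS (Set.mem_univ y))
    exact Set.mem_iUnion₂.mpr ⟨A, hA, hyA, hy⟩
  rw [h]
  exact S.isCompact_biUnion fun A _ => MiscFlat6.isCompact_inter_genSet hM τ A.2

include hc in
/-- An affine locus of a power on the limit comes from an affine locus on a stage. -/
theorem exists_isLocus {i : I} {L₀ : (D.obj i).Modules} (hL₀ : PicF.IsInvertible L₀) {n : ℕ}
    {V : c.pt.Opens} (hV : IsLocus (AmpleDevLib.isInvertible_pb (c.π.app i) hL₀) n V) (hVa : IsAffineOpen V) :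
    ∃ (φ : Over i) (V' : (D.obj φ.left).Opens),
      IsLocus (AmpleDevLib.isInvertible_pb (D.map φ.hom) hL₀) n V' ∧ IsAffineOpen V' ∧
        c.π.app φ.left ⁻¹ᵁ V' = V := by
  obtain ⟨σ, hσ⟩ := hV
  have hG := tensorPow_isInvertible hL₀ n
  obtain ⟨b, -⟩ := AmpleDevLib.exists_pullPowIso (c.π.app i) hL₀ n
  obtain ⟨φ, s, hs⟩ := exists_section hc hG (b.inv.app ⊤ σ)
  have hGφ := AmpleDevLib.isInvertible_pb (D.map φ.hom) hG
  have hpre : c.π.app φ.left ⁻¹ᵁ genSet hGφ s = V := by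
    refine (AmpleDevLib.genSet_puSec (c.π.app φ.left) hGφ s).symm.trans ?_
    refine (genSet_iso _ (AmpleDevLib.isInvertible_pb (c.π.app i) hG) (κ c _ φ) _).symm.trans ?_
    rw [hs, ← hσ]
    exact genSet_iso (tensorPow_isInvertible (AmpleDevLib.isInvertible_pb _ hL₀) n) _ b.symm σ
  obtain ⟨k, V₁, hV₁, hV₁e⟩ := exists_isAffineOpen_preimage_eq D c hc V hVa
  obtain ⟨l, gk, gl, -⟩ := IsCofilteredOrEmpty.cone_objs k φ.left
  obtain ⟨m, gm, hm⟩ := exists_map_preimage_eq_map_preimage D c hc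
    (U := D.map gl ⁻¹ᵁ genSet hGφ s) (V := D.map gk ⁻¹ᵁ V₁)
    (QuasiCompact.isCompact_preimage (f := D.map gl) _ (genSet hGφ s).2 (isCompact_genSet hGφ s))
    (hV₁.preimage (D.map gk)).isCompact (by
      simp only [← Scheme.Hom.comp_preimage, c.w]
      exact ((preimage_eq c (Over.mk gl : Over φ.left) _).symm.trans (preimage_eq c (Over.mk gl : Over φ.left) _)).trans
        (hpre.trans hV₁e.symm))
  let ψ : Over i := Over.mk (gm ≫ gl ≫ φ.hom)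
  refine ⟨ψ, D.map gm ⁻¹ᵁ (D.map gk ⁻¹ᵁ V₁), ?_, (hV₁.preimage _).preimage _, ?_⟩
  · rw [← hm]
    obtain ⟨b', -⟩ := AmpleDevLib.exists_pullPowIso (D.map ψ.hom) hL₀ n
    have hw : D.map (gm ≫ gl) ≫ D.map φ.hom = D.map ψ.hom := by
      rw [← D.map_comp, Category.assoc]; rfl
    let v : pb (D.map (gm ≫ gl)) (pb (D.map φ.hom) (CohB1.tensorPow L₀ n)) ≅
        CohB1.tensorPow (pb (D.map ψ.hom) L₀) n :=
      (Scheme.Modules.pullbackComp _ _).app _ ≪≫ (Scheme.Modules.pullbackCongr hw).app _ ≪≫ b'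
    refine ⟨v.hom.app ⊤ (puSec (D.map (gm ≫ gl)) s), ?_⟩
    refine (genSet_iso (AmpleDevLib.isInvertible_pb _ hGφ) _ v _).trans ?_
    refine (AmpleDevLib.genSet_puSec _ hGφ s).trans ?_
    rw [← Scheme.Hom.comp_preimage, ← D.map_comp]
  · exact (preimage_eq c (Over.mk gm : Over l) _).trans ((preimage_eq c (Over.mk gk : Over k) _).trans hV₁e)

include hc in
/-- **Ampleness descends to a stage.** -/
theorem exists_isAmple_stage {i : I} {L₀ : (D.obj i).Modules} (hL₀ : PicF.IsInvertible L₀)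
    (h : CohB1.IsAmple (pb (c.π.app i) L₀)) :
    ∃ (j : I) (φ : j ⟶ i), CohB1.IsAmple (pb (D.map φ) L₀) := by
  classical
  obtain ⟨hcpt, hx⟩ := (isAmple_iff (hL := AmpleDevLib.isInvertible_pb (c.π.app i) hL₀)).mp h
  choose n V hn hloc hxV haff using hx
  obtain ⟨S, hS⟩ := isCompact_univ.elim_finite_subcover (fun x => SetLike.coe (V x))
    (fun x => (V x).2) fun x _ => Set.mem_iUnion.mpr ⟨x, hxV x⟩
  let K : Type u := {x // x ∈ S}
  obtain ⟨φ, hφ⟩ := RichLib.LimBC.exists_stage (I := Over i) (ι := K)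
    (fun k φ => ∃ V' : (D.obj φ.left).Opens,
      IsLocus (AmpleDevLib.isInvertible_pb (D.map φ.hom) hL₀) (n k.1) V' ∧ IsAffineOpen V' ∧
        c.π.app φ.left ⁻¹ᵁ V' = V k.1)
    (fun k φ ψ g ⟨V', hl, ha, he⟩ => by
      refine ⟨D.map (Over.Hom.left g) ⁻¹ᵁ V', ?_, ha.preimage _, by rw [← Scheme.Hom.comp_preimage, c.w]; exact he⟩
      obtain ⟨σ, hσ⟩ := hl
      obtain ⟨b, -⟩ := AmpleDevLib.exists_pullPowIso (D.map φ.hom) hL₀ (n k.1)
      obtain ⟨b', -⟩ := AmpleDevLib.exists_pullPowIso (D.map ψ.hom) hL₀ (n k.1)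
      have hw : D.map (Over.Hom.left g) ≫ D.map φ.hom = D.map ψ.hom := by rw [← D.map_comp, Over.w g]
      let v : pb (D.map (Over.Hom.left g)) (CohB1.tensorPow (pb (D.map φ.hom) L₀) (n k.1)) ≅
          CohB1.tensorPow (pb (D.map ψ.hom) L₀) (n k.1) :=
        (Scheme.Modules.pullback _).mapIso b.symm ≪≫
          (Scheme.Modules.pullbackComp _ _).app _ ≪≫ (Scheme.Modules.pullbackCongr hw).app _ ≪≫ b'
      have hI := tensorPow_isInvertible (AmpleDevLib.isInvertible_pb (D.map φ.hom) hL₀) (n k.1)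
      refine ⟨v.hom.app ⊤ (puSec (D.map (Over.Hom.left g)) σ), ?_⟩
      refine (genSet_iso (AmpleDevLib.isInvertible_pb _ hI) _ v _).trans ?_
      rw [← hσ]
      exact AmpleDevLib.genSet_puSec _ hI σ)
    (fun k => exists_isLocus hc hL₀ (hloc k.1) (haff k.1))
  choose V' hl ha he using hφ
  obtain ⟨j, g, hg⟩ := exists_map_eq_top D c hc (⨆ k : K, V' k) (by
    refine top_le_iff.mp fun x _ => ?_
    obtain ⟨y, hy, hxy⟩ := Set.mem_iUnion₂.mp (hS (Set.mem_univ x))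
    change c.π.app φ.left x ∈ ⨆ k : K, V' k
    exact Opens.mem_iSup.mpr ⟨⟨y, hy⟩, (he ⟨y, hy⟩).ge hxy⟩)
  refine ⟨j, g ≫ φ.hom, (isAmple_iff (hL := AmpleDevLib.isInvertible_pb _ hL₀)).mpr ⟨inferInstance, fun x => ?_⟩⟩
  obtain ⟨k, hk⟩ := Opens.mem_iSup.mp (hg.ge (show x ∈ (⊤ : (D.obj j).Opens) from trivial))
  refine ⟨n k.1, D.map g ⁻¹ᵁ V' k, hn k.1, ?_, hk, (ha k).preimage _⟩
  obtain ⟨σ, hσ⟩ := hl k
  obtain ⟨b, -⟩ := AmpleDevLib.exists_pullPowIso (D.map φ.hom) hL₀ (n k.1)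
  obtain ⟨b', -⟩ := AmpleDevLib.exists_pullPowIso (D.map (g ≫ φ.hom)) hL₀ (n k.1)
  let v : pb (D.map g) (CohB1.tensorPow (pb (D.map φ.hom) L₀) (n k.1)) ≅
      CohB1.tensorPow (pb (D.map (g ≫ φ.hom)) L₀) (n k.1) :=
    (Scheme.Modules.pullback _).mapIso b.symm ≪≫
      (Scheme.Modules.pullbackComp _ _).app _ ≪≫ (Scheme.Modules.pullbackCongr (D.map_comp g φ.hom).symm).app _ ≪≫ b'
  have hI := tensorPow_isInvertible (AmpleDevLib.isInvertible_pb (D.map φ.hom) hL₀) (n k.1)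
  refine ⟨v.hom.app ⊤ (puSec (D.map g) σ), ?_⟩
  refine (genSet_iso (AmpleDevLib.isInvertible_pb _ hI) _ v _).trans ?_
  rw [← hσ]
  exact AmpleDevLib.genSet_puSec _ hI σ

end LimAmpleLib
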